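import Cfsg.Agent.UGT.C.BalON
import Cfsg.Agent.H680.ONThirtyOne_m3
import Cfsg.Agent.H729.PairON
import Cfsg.Agent.FastGrp
import Cfsg.Agent.Prune
set_option linter.all false
prune_inst 0x7f00000000000000000000000000000000000000000000000000000000000000000000000000000000000000000000000000000000000000000000000000000000000000000000000000000000000000003fffffffffffffffffffffffffffbeffbdffffffff
open scoped Cfsg.Agent.FastGrp

/-!
# The O'Nan group: outer involutions and elements of order 31 (helper248)

* `exists_bt` : every outer automorphism of order 2 is conjugate to `bt` under `ON`;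
* `exists_inv` : every outer automorphism of order 2 inverts an element of order 31;
* `no_real` : no involution of `ON` inverts an element of order 31.
-/

set_option autoImplicit false
set_option maxRecDepth 100000

namespace Cfsg.Agent.H248.SK.ONOut

open Cfsg Subgroup
open Cfsg.Spor (ON)
open Cfsg.Spor.ON (Gen)
open Cfsg.Agent.SporadicB.ONHom Cfsg.Agent.SporadicB.ON45Data Cfsg.Agent.SporadicB.ON45Word
  Cfsg.Agent.ONType.TupRow Cfsg.Agent.ONType.SecondTuple Cfsg.Agent.ONType.TupleClass
  Cfsg.Agent.HN.PC Cfsg.Agent.Schreier.ONRel Cfsg.Agent.UGT.C.PcTab Cfsg.Agent.UGT.C.BalONTab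
  Cfsg.Agent.UGT.C.BalONInv Cfsg.Agent.UGT.C.BalONOut Cfsg.Agent.UGT.C.BalON
open Cfsg.Agent.Lib.PackMat (checkEq checkScalar okG)
open scoped Pointwise

theorem hON : IsON ON := Cfsg.Agent.KFacts.ON.Cent.hON

/-! ### One class of outer involutions -/

/-- `(u, m)` with `u β(m) = m` -/
def wit : List (ℕ × ℕ) :=
  [(0, 0), (1, 4), (2, 36), (3, 32), (4, 164), (5, 160), (6, 128), (7, 132), (8, 84), (9, 80), (10, 112),
   (11, 116), (12, 240), (13, 244), (14, 212), (15, 208), (32, 64), (33, 68), (34, 100), (35, 96), (36, 228),
   (37, 224), (38, 192), (39, 196), (40, 20), (41, 16), (42, 48), (43, 52), (44, 176), (45, 180), (46, 148),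
   (47, 144), (80, 496), (81, 500), (82, 468), (83, 464), (84, 324), (85, 320), (86, 352), (87, 356),
   (88, 420), (89, 416), (90, 384), (91, 388), (92, 272), (93, 276), (94, 308), (95, 304), (112, 368),
   (113, 372), (114, 340), (115, 336), (116, 452), (117, 448), (118, 480), (119, 484), (120, 292), (121, 288),
   (122, 256), (123, 260), (124, 400), (125, 404), (126, 436), (127, 432)]

theorem wit_ok : (wit.all fun e => Nat.blt e.2 512 && Nat.beq (mu e.1 (be e.2)) e.2) = true := by decide +kernel

theorem wit_all : ∀ u < 512, mu u (be u) = 0 → (wit.any fun e => Nat.beq e.1 u) = true := by decide +kernel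

theorem exists_wit {u : ℕ} (hu : u < 512) (h : mu u (be u) = 0) : ∃ m < 512, mu u (be m) = m := by
  obtain ⟨e, he, h1⟩ := List.any_eq_true.1 (wit_all u hu h)
  have h2 := List.all_eq_true.1 wit_ok e he
  rw [Bool.and_eq_true] at h2
  have h3 : e.1 = u := Nat.eq_of_beq_eq_true h1
  refine ⟨e.2, by simpa [Nat.blt] using h2.1, ?_⟩
  have h4 := Nat.eq_of_beq_eq_true h2.2
  rwa [h3] at h4

/-- every outer automorphism of order 2 is conjugate to `bt` -/
theorem exists_bt {σ : MulAut ON} (hσσ : σ * σ = 1) (hout : ∀ x, σ ≠ MulAut.conj x) :
    ∃ y : ON, ∀ z, σ z = y * bt hON (y⁻¹ * z * y) * y⁻¹ := by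
  have hfin := Cfsg.Agent.ONType.RepCent.finite_of_isON hON
  have hs := hON.1
  obtain ⟨x, hx | hx⟩ := out' hON σ
  · exact absurd hx (hout x)
  obtain ⟨P, hP⟩ := Cfsg.Agent.Schreier.ONTr.exists_sylow hON
  have hfact : Fact (Nat.Prime 2) := ⟨Nat.prime_two⟩
  have hoddS : Odd (Nat.card (Sylow 2 ON)) := by
    have h := card_sylow_modEq_one 2 ON
    rw [Nat.odd_iff]
    exact h
  obtain ⟨Q, hQ⟩ := Cfsg.Agent.UGT.C.BalLarge.exists_fixedPoint hoddS (fun Q : Sylow 2 ON => σ • Q) (fun Q => by
    show σ • (σ • Q) = Q
    rw [← mul_smul, hσσ, one_smul])
  obtain ⟨y, hy⟩ := MulAction.exists_smul_eq ON Q P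
  have hmem : ∀ z, z ∈ (Q : Set ON) ↔ y * z * y⁻¹ ∈ T := by
    intro z
    have e1 : y * z * y⁻¹ ∈ T ↔ y * z * y⁻¹ ∈ (P : Set ON) := by
      rw [← Sylow.coe_coe, hP]; exact SetLike.mem_coe.symm
    rw [e1, ← hy, Sylow.coe_smul]
    constructor
    · intro hz
      exact ⟨z, hz, rfl⟩
    · rintro ⟨z', hz', h⟩
      have h' : y * z' * y⁻¹ = y * z * y⁻¹ := h
      have : z' = z := mul_left_cancel (mul_right_cancel h')
      rwa [← this]
  have hσQ : ∀ z ∈ (Q : Set ON), σ z ∈ (Q : Set ON) := by
    intro z hz
    have h : ((σ • Q : Sylow 2 ON) : Subgroup ON) = σ • (Q : Subgroup ON) := Sylow.pointwise_smul_def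
    have h' : σ • Q = Q := hQ
    rw [h'] at h
    rw [← Sylow.coe_coe, h]
    exact ⟨z, hz, rfl⟩
  obtain ⟨u, hu⟩ : ∃ u, u = y * x * bt hON y⁻¹ := ⟨_, rfl⟩
  have key : ∀ z, y * σ (y⁻¹ * z * y) * y⁻¹ = u * bt hON z * u⁻¹ := by
    intro z
    rw [hx]
    show y * (x * bt hON (y⁻¹ * z * y) * x⁻¹) * y⁻¹ = _
    rw [hu]
    simp only [map_mul, map_inv]
    group
  have huT : u ∈ T := by
    apply norm_T hON
    intro t ht
    have h1 := key (bt hON t)
    rw [bt_bt'] at h1
    rw [← h1, ← hmem]
    apply hσQ
    rw [hmem]
    have e : y * (y⁻¹ * bt hON t * y) * y⁻¹ = bt hON t := by group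
    rw [e]
    exact bt_mem hON ht
  have huu : u * bt hON u = 1 := by
    apply conj_inj hON
    rw [map_one]
    ext z
    show u * bt hON u * z * (u * bt hON u)⁻¹ = z
    have h1 : ∀ z, σ (σ z) = z := fun z => by
      show (σ * σ) z = z
      rw [hσσ]; rfl
    have h2 := key (y * σ (y⁻¹ * z * y) * y⁻¹)
    have e1 : y⁻¹ * (y * σ (y⁻¹ * z * y) * y⁻¹) * y = σ (y⁻¹ * z * y) := by group
    rw [e1, h1, key z, map_mul, map_mul, bt_bt', map_inv] at h2
    calc u * bt hON u * z * (u * bt hON u)⁻¹ = u * (bt hON u * z * (bt hON u)⁻¹) * u⁻¹ := by group
      _ = y * (y⁻¹ * z * y) * y⁻¹ := h2.symm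
      _ = z := by group
  obtain ⟨n, hn, rfl⟩ := exists_E hs huT
  rw [bt_E, E_mul hs hn, ← E_zero] at huu
  have h3 := E_inj hs (mu_lt hs hn _) (by norm_num) huu
  obtain ⟨m, hm, hmm⟩ := exists_wit hn h3
  have h4 : E n * bt hON (E m) = E m := by rw [bt_E, E_mul hs hn, hmm]
  have h5 : E n = E m * (bt hON (E m))⁻¹ := eq_mul_inv_of_mul_eq h4
  refine ⟨y⁻¹ * E m, fun z => ?_⟩
  have h6 := key (y * z * y⁻¹)
  have e1 : y⁻¹ * (y * z * y⁻¹) * y = z := by group
  rw [e1, h5] at h6
  have h7 : σ z = y⁻¹ * (y * σ z * y⁻¹) * y := by group
  rw [h7, h6]
  simp only [map_mul, map_inv]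
  group

/-! ### An element of order 31 inverted by `bt` -/

/-- the word -/
def wl : List Gen := [.d, .c, .b, .e, .d, .c]
@[inherit_doc wl] def wl' : List Gen := [.c, .d, .e, .b, .c, .d]

/-- the matrix -/
def mz : ℕ := 0x4000004018030040080200600a010030000020100080000c00c018020000180280400c00402801004014030040060040280400600001006008004030050020180300500a00c010050080180000600a00c008020000040080100601000800004000030050020180180200c00c01801008000028030040140280400400402001002008010050020180100200a01000003002008030030040180180300000c00000000014028000020100000400c0080100200c0000100600a0180180100c0080080600600c028000060140280100200c0000300a010000010080140100000a00002804002010018060060000180300600c0300000800c03006004014030010040140180600600c0280600600c0100400a018020040000100100200c018028040060180180000a010010030060040200500c0040280100800001801000004020050080100000200c0080100000c004000030060140180300a004030000000080000300c00c020010040000280600c0140000500c0180300400000c0280500200400000004010020050060140180300600803006002018028050060100280300400001805004008028010080180300200400c018030060080000500800c0300200001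40100100a00c0300000200003004004018010030020180280600000c010050040040000100000c0280600c00c0200400400c0180400c00001003004004010020080100000200c00c0000200400c00801008000000050080000300100a0140200500c0100200300a014008010020180100600600002004002008018030020140000500c0140000500c014020000020100300100200800806008000028000020040200100600c000010000040200600600003004008010008060000080080400a014030050020080280500a00c0080100a010028040080100100400400801003008008028060020040100500a000020040040140080300600400003002010010030000180280000600c0080500a0100080100200c0200100800c01005006000030020080180300000a010018040060140280300c0040200400a0140100200a0040100500a010018020000080100600c0040300400a00001001000004020050040180100000c014028060020100180000a008028060020080280200a0140180600201403003000008018050000000200500a0140300200a0080100000a0000300000a018028050000180000500c0040000000600c0100400a00c028030020000280400c018020000000180000500a00402006002010030010040140280600000c0180500a0040200600c00c000020020000100200201801003000008008010020040180500c00c030010020080300600c008000000020040180300c00401001006008010030020000080100c014020040020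040100500800402006004010028000000100000300600c030020060100300000c0040180100800401805000014010020020000300100001803005000008000020060100180300600802801002004010050060040180100a0040180300201401001008010018020040140080200200c00000000010010060040000180100c00402805008000008010020180280500c000030060080080000100800002004006004020010020180300200c0040200000400800800002004000060040040180300c00001001004000008000020100200500a00c03002000008028030040140200200a000008060000180100600801400006002018018040040100280500400800800006004018020000000000400000c0300100a0140180200401402005002018020040060140200300a0000180500001000004002018020000080040280200c00c028000060140080500a01403000008008020050020100300300c008008010040140180400800c0280400201800005008010008000080040200400a0000300100a0140080100a018020060040040280400200802004006008010010080100300000200402003000004028030020000100300a01802805004008020020040000280400001800800002004020020060180200600801800006008004010020020180200100601401802002004028000040180300600400c0200300000c0200100a0140300100200c008020080100100000600c010040000040080600a00402806006008020000020100300600c00000002008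00c03004008018018010060040000500600801800004008008010080000080100c0040100500a014018040060100000000a00802803006000000050080000080600800c0080100401002000004010020020080040200400c004008010020180180300a008028000080140100000200c0200000a0100100000a00401802008018030000040180100300600c018030020180100600a0140080600a0100180100a01801805006004000050040040200300c0040200300401000002008004020060040140080000000c000040020140300600c010000000020100000400800401800008000008060040080080000401002001006014028060080140280200000c03006004004010020080040080200c010018040060140100000c014020060000180200500600c0280600c0040100300a0100000000001401803002018028050020180000100200802004000014030050060040200600201802801000000028000080040100100c0000200100200c0100600c00c0180500a01803000008008020010000040000300800802001002000008020020100200600200c030020060100300400200c0080300400c01800006008028030000140000000a008020060060000300400601800800000018008020060040200500a0040180200201800804002018000030080080200300200c010050060040300300001001005008008018000000140100200c00c008040080000100100401400801002008008040020080200100c01402802008008010030040140280000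c0100280600000001801004014008020060000100200400c0200200400400001002000000060040040200500c018008000000180180100c0000180500c00001802000010000020020100280400200c02006002008028020080080180300000001001008008030010080000280500c0080100100c00c0280600c014030060060080300600a018028040060100100200601801800004008008040020040200100a000000030040140280500a0080080600a018020020080100100400c0100080000800401000000000010040080140080300a008010000020140300600201400803004014008060080140300000a014028040060040280600a0080200300000003003008008030060040040000500a00c0180400000c030040060000080300201801803000004018010000000000100c0140200200a0080080300a004030000020140280600600c010000060140300000c00800004002000030020080140080100a00c028020080140300600a0000100300c01001800002018028060080180100400000c00006000000018040040000100200201801001002018018050060040200600a014010040000100200400600c0200200a00c028000080140280400a00c01006004008000020060080100400800c030020080140180100600402000002004028020020140080500a0100000300c0040300200c0100200400c0080300500c010000040040040100500c0100080500c01802806008004008050080000200500401802800000014028040040140000100a00401804002014010030080100300100a00c008060060180000100400c018030080100180000200c0200100400c028030040180100000800800002004010030040020140100100800c03006000004000000080180280600400001001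

theorem wl_inv : eqW (wl ++ wl') [] = true := by decide +kernel
theorem mz_ok : ([mz].all fun g => okG C45 g) = true := by decide +kernel
theorem mz_eq : checkEq C45 (mats (wl' ++ btw wl)) [mz] 0 45 = true := by decide +kernel
theorem mz_pow : checkScalar C45 ((List.replicate 31 [mz]).flatten) 2 0 45 = true := by decide +kernel

/-- the element -/
noncomputable def w0 : ON := (wl.map on).prod
/-- the element of order 31 -/
noncomputable def z0 : ON := w0⁻¹ * bt hON w0

theorem z0_eq : z0 = ((wl' ++ btw wl).map on).prod := by
  have h1 := eqW_spec hON.1 wl_inv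
  rw [List.map_append, List.prod_append, List.map_nil, List.prod_nil] at h1
  unfold z0 w0
  rw [bt_word, List.map_append, List.prod_append, inv_eq_of_mul_eq_one_right h1]

theorem bt_z0 : bt hON z0 = z0⁻¹ := by
  unfold z0
  rw [map_mul, map_inv, bt_bt', mul_inv_rev, inv_inv]

theorem lz : LW z0 [mz] := by
  rw [z0_eq]
  exact (LW.word (wl' ++ btw wl)).change mz_ok mz_eq

theorem orderOf_z0 : orderOf z0 = 31 := by
  have : Fact (Nat.Prime 31) := ⟨by norm_num⟩
  refine orderOf_eq_prime ?_ ?_
  · exact (lz.pow 31).eq_one hON.1 2 (by decide) mz_pow
  · exact LW.ne_one lz 0 1 (by decide) (by decide +kernel)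

/-- **every outer automorphism of order 2 inverts an element of order 31** -/
theorem exists_inv {σ : MulAut ON} (hσσ : σ * σ = 1) (hout : ∀ x, σ ≠ MulAut.conj x) :
    ∃ z : ON, orderOf z = 31 ∧ σ z = z⁻¹ := by
  obtain ⟨y, hy⟩ := exists_bt hσσ hout
  refine ⟨y * z0 * y⁻¹, ?_, ?_⟩
  · rw [← orderOf_z0]
    exact orderOf_injective (MulAut.conj y).toMonoidHom (MulAut.conj y).injective z0
  · rw [hy]
    have e : y⁻¹ * (y * z0 * y⁻¹) * y = z0 := by group
    rw [e, bt_z0]
    group

/-- no involution of `ON` inverts an element of order 31 -/
theorem no_real {r y : ON} (hy : orderOf y = 31) (hr : r * r = 1) (h : r * y * r⁻¹ = y⁻¹) : False := by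
  have hfin : Finite ON := Cfsg.Agent.KFacts.ON.OneClass.finite_ON
  have h31F : Fact (Nat.Prime 31) := ⟨by norm_num⟩
  have hcard : Nat.card ON = 460815505920 := Cfsg.Agent.KFacts.ON.OneClass.card_ON
  have hr1 : r ≠ 1 := by
    rintro rfl
    rw [one_mul, inv_one, mul_one] at h
    have h1 : y ^ 2 = 1 := by
      rw [pow_two]
      nth_rw 1 [h]
      exact inv_mul_cancel y
    have h2 := orderOf_dvd_of_pow_eq_one h1
    rw [hy] at h2
    norm_num at h2
  have hro : orderOf r = 2 := orderOf_eq_prime (by rw [pow_two, hr]) hr1
  have hrN : r ∈ normalizer ((zpowers y : Subgroup ON) : Set ON) := by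
    have h1 : ∀ x ∈ zpowers y, r * x * r⁻¹ ∈ zpowers y := by
      intro x hx
      obtain ⟨k, rfl⟩ := mem_zpowers_iff.1 hx
      rw [← conj_zpow, h]
      exact zpow_mem (inv_mem (mem_zpowers y)) k
    rw [mem_normalizer_iff]
    intro x
    refine ⟨h1 x, fun hx => ?_⟩
    have h2 := h1 _ hx
    have h3 : r⁻¹ = r := inv_eq_of_mul_eq_one_left hr
    have e : r * (r * x * r⁻¹) * r⁻¹ = x := by
      rw [h3]
      calc r * (r * x * r) * r = (r * r) * x * (r * r) := by group
        _ = x := by rw [hr]; group
    rwa [e] at h2
  obtain ⟨n, hn, hN⟩ := CpAutON.Gen.card_eq (G := ON) (p := 31) (by rw [hcard]; norm_num) hy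
  have hd := H474.ONC.range_dvd hy
  have hNc := CpAutON.Gen.card_normalizer y
  rw [H680.ONThirtyOne.card_cent hy] at hN hNc
  have h2 : 2 ∣ Nat.card ↥(normalizer ((zpowers y : Subgroup ON) : Set ON)) := by
    rw [← hro]
    exact orderOf_dvd_natCard _ hrN
  rw [hNc] at h2
  obtain ⟨m, hm⟩ : ∃ m, m = Nat.card ↥((zpowers y).normalizerMonoidHom).range := ⟨_, rfl⟩
  rw [← hm] at hN hd h2
  rw [hcard] at hN
  have hm30 : m ≤ 30 := Nat.le_of_dvd (by norm_num) hd
  have h2m : 2 ∣ m := by
    rcases (Nat.Prime.dvd_mul Nat.prime_two).1 h2 with h | h
    · norm_num at h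
    · exact h
  clear hm hNc h2
  interval_cases m <;> first
    | (exfalso; revert hd; norm_num; done)
    | (exfalso; revert h2m; norm_num; done)
    | omega

open Cfsg.Agent.SporadicB.ON45Sub in
/-- every involution inverts an element of order 19 -/
theorem exists_nineteen {v : ON} (hv : v * v = 1) (hv1 : v ≠ 1) : ∃ x : ON, orderOf x = 19 ∧ v * x * v⁻¹ = x⁻¹ := by
  have hfin : Finite ON := Cfsg.Agent.KFacts.ON.OneClass.finite_ON
  obtain ⟨s, t, hs, ht, hst⟩ := H729.PairJ1.exists_nineteen
  obtain ⟨e⟩ := SporadicB.AtlasPres.J1Rec.nonempty_mulEquiv (relJ1 KFacts.ON.OneClass.hs) xA_ne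
  have key : ∀ u v : Cfsg.Spor.J1, (((e.symm u : Subgroup.closure {xA, xB}) : ON) *
      ((e.symm v : Subgroup.closure {xA, xB}) : ON)) = ((e.symm (u * v) : Subgroup.closure {xA, xB}) : ON) := by
    intro u v
    rw [map_mul]
    rfl
  set s' : ON := (e.symm s : ON) with hs'
  set t' : ON := (e.symm t : ON) with ht'
  have hss : s' * s' = 1 := by rw [hs', key, hs, map_one]; rfl
  have htt : t' * t' = 1 := by rw [ht', key, ht, map_one]; rfl
  have hst' : orderOf (s' * t') = 19 := by
    rw [hs', ht', key, ← hst, Subgroup.orderOf_coe]
    exact e.symm.orderOf_eq _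
  have hs1 : s' ≠ 1 := by
    intro h
    rw [h, one_mul] at hst'
    have h1 := orderOf_dvd_of_pow_eq_one (x := t') (n := 2) (by rw [pow_two, htt])
    rw [hst'] at h1
    norm_num at h1
  obtain ⟨g, hg⟩ := isConj_iff.1 ((KFacts.ON.OneClass.one_class hss hs1).trans
    (KFacts.ON.OneClass.one_class hv hv1).symm)
  refine ⟨g * (s' * t') * g⁻¹, ?_, ?_⟩
  · rw [← hst']
    exact orderOf_injective (MulAut.conj g).toMonoidHom (MulAut.conj g).injective (s' * t')
  · have hsi : s'⁻¹ = s' := inv_eq_of_mul_eq_one_left hss
    have hti : t'⁻¹ = t' := inv_eq_of_mul_eq_one_left htt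
    rw [← hg]
    calc g * s' * g⁻¹ * (g * (s' * t') * g⁻¹) * (g * s' * g⁻¹)⁻¹ = g * (s' * s' * t' * s'⁻¹) * g⁻¹ := by group
      _ = g * (t' * s') * g⁻¹ := by rw [hss, hsi, one_mul]
      _ = (g * (s' * t') * g⁻¹)⁻¹ := by
        rw [mul_inv_rev, mul_inv_rev, inv_inv, mul_inv_rev, hsi, hti, mul_assoc]

end Cfsg.Agent.H248.SK.ONOut
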